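import Groth.Prelude.Def_W4c5spincurvestfNode
import Mathlib.RingTheory.MvPowerSeries.Trunc
import Mathlib.RingTheory.MvPowerSeries.Order
import Mathlib.LinearAlgebra.Dimension.Constructions
import Mathlib.LinearAlgebra.Dimension.StrongRankCondition
import Mathlib.RingTheory.Ideal.Quotient.Operations

/-!
# Length of the cokernel at a node
-/

universe u

open MvPowerSeries

namespace Groth.Agent.Node26

variable {k : Type u} [Field k]

/-- Exponents of `1, x, …, x^{u-1}, y, …, y^{v-1}`. -/
noncomputable def expo (u v : ℕ) : Fin u ⊕ Fin (v - 1) → (Fin 2 →₀ ℕ)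
  | .inl i => Finsupp.single 0 i
  | .inr j => Finsupp.single 1 (j + 1)

noncomputable def coeffs (u v : ℕ) :
    MvPowerSeries (Fin 2) k →ₗ[k] (Fin u ⊕ Fin (v - 1) → k) :=
  LinearMap.pi fun s => MvPowerSeries.coeff (expo u v s)

theorem mem_of_coeffs_eq_zero (u v : ℕ) (hv : 1 ≤ v) (f : MvPowerSeries (Fin 2) k)
    (h : coeffs u v f = 0) :
    f ∈ Ideal.span {X 0 * X 1, X 0 ^ u, X 1 ^ v} := by
  classical
  let A : MvPowerSeries (Fin 2) k := fun m => if u ≤ m 0 then coeff m f else 0
  let B : MvPowerSeries (Fin 2) k := fun m => if ¬ u ≤ m 0 ∧ v ≤ m 1 then coeff m f else 0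
  let D : MvPowerSeries (Fin 2) k := fun m => coeff (m + (Finsupp.single 0 1 + Finsupp.single 1 1))
    (f - A - B)
  have cA : ∀ m, coeff m A = if u ≤ m 0 then coeff m f else 0 := fun m => rfl
  have cB : ∀ m, coeff m B = if ¬ u ≤ m 0 ∧ v ≤ m 1 then coeff m f else 0 := fun m => rfl
  have hA : (X 0 : MvPowerSeries (Fin 2) k) ^ u ∣ A :=
    X_pow_dvd_iff.mpr fun m hm => by rw [cA, if_neg (by omega)]
  have hB : (X 1 : MvPowerSeries (Fin 2) k) ^ v ∣ B :=
    X_pow_dvd_iff.mpr fun m hm => by rw [cB, if_neg (by omega)]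
  have hmono : (X 0 * X 1 : MvPowerSeries (Fin 2) k) =
      monomial (Finsupp.single 0 1 + Finsupp.single 1 1) 1 := by
    rw [X, X, monomial_mul_monomial, one_mul]
  have hD : f - A - B = X 0 * X 1 * D := by
    ext m
    rw [hmono, coeff_monomial_mul, one_mul]
    split_ifs with hle
    · show _ = coeff (m - _ + _) (f - A - B)
      rw [tsub_add_cancel_of_le hle]
    · have hm : m 0 = 0 ∨ m 1 = 0 := by
        by_contra hc
        push Not at hc
        refine hle fun i => ?_
        fin_cases i <;> simp <;> omega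
      rw [map_sub, map_sub, cA, cB]
      by_cases hu : u ≤ m 0
      · rw [if_pos hu, if_neg (fun h => h.1 hu)]; simp
      · rw [if_neg hu]
        by_cases hv' : v ≤ m 1
        · rw [if_pos ⟨hu, hv'⟩]; simp
        · rw [if_neg (fun h => hv' h.2), sub_zero, sub_zero]
          rcases hm with h0 | h1
          · rcases Nat.eq_zero_or_pos (m 1) with h1 | h1
            · have e := congrFun h (Sum.inl ⟨0, by omega⟩)
              have em : m = Finsupp.single 0 0 := by
                ext i; fin_cases i <;> simp [h0, h1]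
              rw [em]; exact e
            · have e := congrFun h (Sum.inr ⟨m 1 - 1, by omega⟩)
              have em : m = Finsupp.single 1 (m 1 - 1 + 1) := by
                ext i; fin_cases i <;> simp [h0]; omega
              rw [em]; exact e
          · have e := congrFun h (Sum.inl ⟨m 0, by omega⟩)
            have em : m = Finsupp.single 0 (m 0) := by
              ext i; fin_cases i <;> simp [h1]
            rw [em]; exact e
  rw [show f = A + B + (f - A - B) by ring, hD]
  refine add_mem (add_mem ?_ ?_) (Ideal.mul_mem_right _ _ (Ideal.subset_span (by simp)))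
  · exact Ideal.mem_of_dvd _ hA (Ideal.subset_span (by simp))
  · exact Ideal.mem_of_dvd _ hB (Ideal.subset_span (by simp))

theorem coeffs_eq_zero_of_mem (u v : ℕ) (hu : 1 ≤ u) (hv : 1 ≤ v) (f : MvPowerSeries (Fin 2) k)
    (h : f ∈ Ideal.span {X 0 * X 1, X 0 ^ u, X 1 ^ v}) : coeffs u v f = 0 := by
  classical
  refine Submodule.span_induction ?_ (map_zero _) (fun a b _ _ ha hb => by rw [map_add, ha, hb, add_zero])
    ?_ (show f ∈ Submodule.span (MvPowerSeries (Fin 2) k) _ from h) |> fun e => e
  · intro g hg
    refine funext fun s => ?_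
    show coeff (expo u v s) g = 0
    rcases hg with rfl | rfl | rfl
    · rcases s with i | i
      · exact X_dvd_iff.mp (dvd_mul_left (X 1) (X 0)) _ (by simp [expo])
      · exact X_dvd_iff.mp (dvd_mul_right (X 0) (X 1)) _ (by simp [expo])
    · exact X_pow_dvd_iff.mp dvd_rfl _ (by rcases s with i | i <;> simp [expo] <;> omega)
    · exact X_pow_dvd_iff.mp dvd_rfl _ (by rcases s with i | i <;> simp [expo] <;> omega)
  · intro r g _ hg
    refine funext fun s => ?_
    show coeff (expo u v s) (r * g) = 0
    rw [coeff_mul]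
    refine Finset.sum_eq_zero fun p hp => ?_
    rw [Finset.HasAntidiagonal.mem_antidiagonal] at hp
    have hle : p.2 ≤ expo u v s := hp ▸ le_add_self
    obtain ⟨t, ht⟩ : ∃ t, p.2 = expo u v t := by
      rcases s with i | i
      · refine ⟨.inl ⟨p.2 0, by have := hle 0; simp [expo] at this; omega⟩, ?_⟩
        ext l; fin_cases l
        · simp [expo]
        · have := hle 1; simp [expo] at this ⊢; omega
      · rcases Nat.eq_zero_or_pos (p.2 1) with h1 | h1
        · refine ⟨.inl ⟨0, hu⟩, ?_⟩
          ext l; fin_cases l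
          · have := hle 0; simp [expo] at this ⊢; omega
          · simp [expo, h1]
        · refine ⟨.inr ⟨p.2 1 - 1, by have := hle 1; simp [expo] at this; omega⟩, ?_⟩
          ext l; fin_cases l
          · have := hle 0; simp [expo] at this ⊢; omega
          · simp [expo]; omega
    rw [ht, show coeff (expo u v t) g = 0 from congrFun hg t, mul_zero]

theorem coeffs_surjective (u v : ℕ) : Function.Surjective (coeffs (k := k) u v) := by
  classical
  intro c
  have hinj : Function.Injective (expo u v) := by
    rintro (i | i) (j | j) h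
    · have := DFunLike.congr_fun h 0; simp [expo] at this; rw [Fin.ext this]
    · have := DFunLike.congr_fun h 1; simp [expo] at this
    · have := DFunLike.congr_fun h 1; simp [expo] at this
    · have := DFunLike.congr_fun h 1; simp [expo] at this; rw [Fin.ext this]
  refine ⟨∑ s, monomial (expo u v s) (c s), funext fun t => ?_⟩
  show coeff (expo u v t) (∑ s, monomial (expo u v s) (c s)) = _
  rw [map_sum, Finset.sum_eq_single t]
  · exact coeff_monomial_same _ _
  · intro s _ hs
    rw [coeff_monomial, if_neg (fun h => hs (hinj h).symm)]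
  · simp

theorem finrank_node_quot (u v : ℕ) (hu : 1 ≤ u) (hv : 1 ≤ v) (w : k) (hw : w ≠ 0) :
    Module.finrank k (SpinCurv.NodeRing k 0 ⧸
      Ideal.span {SpinCurv.NodeRing.x k 0 ^ u,
        algebraMap k (SpinCurv.NodeRing k 0) w * SpinCurv.NodeRing.y k 0 ^ v}) = u + v - 1 := by
  let π : MvPowerSeries (Fin 2) k →ₐ[k] SpinCurv.NodeRing k 0 := Ideal.Quotient.mkₐ k _
  have hI : Ideal.span {SpinCurv.NodeRing.x k 0 ^ u,
      algebraMap k (SpinCurv.NodeRing k 0) w * SpinCurv.NodeRing.y k 0 ^ v} =
      (Ideal.span {(X 0 : MvPowerSeries (Fin 2) k) * X 1, X 0 ^ u, X 1 ^ v}).map π := by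
    rw [Ideal.map_span, Set.image_insert_eq, Set.image_insert_eq, Set.image_singleton]
    simp only [Ideal.span_insert]
    have h0 : π (X 0 * X 1) = 0 := by
      show Ideal.Quotient.mk _ _ = 0
      rw [Ideal.Quotient.eq_zero_iff_mem]
      exact Ideal.subset_span (by simp)
    rw [h0, Ideal.span_singleton_mul_left_unit ((IsUnit.mk0 w hw).map _)]
    simp [π]
  rw [hI]
  let q : MvPowerSeries (Fin 2) k →ₗ[k] _ :=
    ((Ideal.Quotient.mkₐ k ((Ideal.span {(X 0 : MvPowerSeries (Fin 2) k) * X 1, X 0 ^ u,
      X 1 ^ v}).map π)).comp π).toLinearMap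
  have hq : Function.Surjective q :=
    Ideal.Quotient.mk_surjective.comp Ideal.Quotient.mk_surjective
  have hker : LinearMap.ker q = LinearMap.ker (coeffs (k := k) u v) := by
    ext f
    rw [LinearMap.mem_ker, LinearMap.mem_ker]
    show Ideal.Quotient.mk _ (π f) = 0 ↔ _
    rw [Ideal.Quotient.eq_zero_iff_mem, ← Ideal.mem_comap,
      Ideal.comap_map_of_surjective π Ideal.Quotient.mk_surjective, sup_eq_left.mpr ?_]
    · exact ⟨coeffs_eq_zero_of_mem u v hu hv f, mem_of_coeffs_eq_zero u v hv f⟩
    · intro g hg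
      have : g ∈ Ideal.span {(X 0 : MvPowerSeries (Fin 2) k) * X 1 - C 0} :=
        Ideal.Quotient.eq_zero_iff_mem.mp hg
      rw [map_zero, sub_zero] at this
      exact Ideal.span_mono (by simp) this
  rw [← ((q.quotKerEquivOfSurjective hq).finrank_eq), hker,
    ((coeffs (k := k) u v).quotKerEquivOfSurjective (coeffs_surjective u v)).finrank_eq,
    Module.finrank_fintype_fun_eq_card, Fintype.card_sum, Fintype.card_fin, Fintype.card_fin]
  omega

end Groth.Agent.Node26
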